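import Groth.Agent.MultExtCentralLib.Main
import Groth.Agent.MuGLLib.Pts
import Groth.Agent.CommUnipLib.Main
import Groth.Agent.MultBridge.Chart
import Groth.Agent.TorusField.Bridge
import Groth.Agent.QuotTorus.Main

/-!
A commutative extension of groups of multiplicative type over a field is of multiplicative type.
-/

set_option autoImplicit false
set_option backward.isDefEq.respectTransparency false
set_option backward.isDefEq.respectTransparency.types false
set_option linter.unusedSectionVars false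
set_option linter.style.haveILetI false
set_option maxHeartbeats 1000000
set_option synthInstance.maxHeartbeats 400000

universe u

open CategoryTheory CategoryTheory.Limits MonoidalCategory CartesianMonoidalCategory MonObj GrpObj AlgebraicGeometry
open TensorProduct WithConv
open scoped TensorProduct

noncomputable section

attribute [-instance] CategoryTheory.Hom.commGroup

namespace Groth.Agent.MultExtCentral

open MuGLLib TorusField

variable {k : Type u} [Field k]

/-- The point of an algebra map, as a map of schemes. -/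
theorem mapMulEquiv_apply {A B : Type u} [CommRing A] [HopfAlgebra k A] [CommRing B] [Algebra k B]
    (α : A →ₐ[k] B) : Spec.mapMulEquiv (R := k) (toConv α) = (wmap α : W k B ⟶ W k A) :=
  Over.OverMorphism.ext rfl

/-- A commutative affine group has a cocommutative coordinate ring. -/
theorem isCocomm_of_points {A : Type u} [CommRing A] [HopfAlgebra k A]
    (h : ∀ (T : Over (Spec (CommRingCat.of k))) (a b : T ⟶ (specGrp k A).X), a * b = b * a) :
    Coalgebra.IsCocomm k A := by
  let l : WithConv (A →ₐ[k] A ⊗[k] A) := toConv Algebra.TensorProduct.includeLeft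
  let r : WithConv (A →ₐ[k] A ⊗[k] A) := toConv Algebra.TensorProduct.includeRight
  have h1 : l * r = r * l := (Spec.mapMulEquiv (R := k) (S := A) (T := A ⊗[k] A)).injective (by
    rw [map_mul, map_mul]
    exact h _ _ _)
  refine ⟨LinearMap.ext fun a => ?_⟩
  have h2 := congrArg (fun z => z.ofConv a) h1
  simp only [AlgHom.convMul_apply] at h2
  have e1 : ∀ z : A ⊗[k] A, Algebra.TensorProduct.lift l.ofConv r.ofConv (fun _ _ => Commute.all _ _) z = z := fun z => by
    induction z using TensorProduct.induction_on with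
    | zero => simp
    | tmul p q => simp [l, r]
    | add p q hp hq => simp only [map_add, hp, hq]
  have e2 : ∀ z : A ⊗[k] A, Algebra.TensorProduct.lift r.ofConv l.ofConv (fun _ _ => Commute.all _ _) z =
      TensorProduct.comm k A A z := fun z => by
    induction z using TensorProduct.induction_on with
    | zero => simp
    | tmul p q => simp [l, r, mul_comm]
    | add p q hp hq => simp only [map_add, hp, hq]
  rw [e1, e2] at h2
  exact h2.symm

/-- A group of multiplicative type over a field has a coordinate ring of multiplicative type. -/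
theorem isMultTypeConst_of_FT {H : Over (Spec (CommRingCat.of k))} [GrpObj H] (hH : SGA3x.IsMultTypeFT H)
    {A : Type u} [CommRing A] [HopfAlgebra k A] (e : specGrp k A ≅ Grp.mk H) : SGA3b.IsMultTypeConst k A := by
  obtain ⟨eid⟩ := QuotTorus.nonempty_bcId_iso H
  obtain ⟨B, _, _, P, hflat, hP, -, hD⟩ := MultBridge.exists_flat_split (eA := e ≪≫ eid.symm) hH (⊥ : Ideal k)
  haveI : Nontrivial B := ⟨⟨1, 0, fun h10 => hP.ne_top ((Ideal.eq_top_iff_one _).2 (by rw [h10]; exact P.zero_mem))⟩⟩
  exact ⟨B, inferInstance, inferInstance, inferInstance, hD⟩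

/-- A coordinate ring of multiplicative type gives a group of multiplicative type. -/
theorem isMultTypeFT_of_const {H : Over (Spec (CommRingCat.of k))} [GrpObj H] {A : Type u} [CommRing A]
    [HopfAlgebra k A] [Algebra.FiniteType k A] (e : specGrp k A ≅ Grp.mk H) (h : SGA3b.IsMultTypeConst k A) :
    SGA3x.IsMultTypeFT H := by
  obtain ⟨B, _, _, hff, hD⟩ := h
  haveI : Nontrivial B := (FaithfulSMul.algebraMap_injective k B).nontrivial
  obtain ⟨eid⟩ := QuotTorus.nonempty_bcId_iso H
  let f : Spec (CommRingCat.of B) ⟶ Spec (CommRingCat.of k) := Spec.map (CommRingCat.ofHom (algebraMap k B))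
  obtain ⟨M, _, hM, ⟨e'⟩⟩ := MultBridge.split_of_isDiag (eA := e ≪≫ eid.symm) B hD (d := f) (Category.comp_id _)
  haveI hs : Surjective f := ⟨fun x => ⟨Classical.arbitrary (PrimeSpectrum B), Subsingleton.elim (α := PrimeSpectrum k) _ _⟩⟩
  haveI hf : Flat f := by
    rw [HasRingHomProperty.Spec_iff (P := @Flat)]
    exact RingHom.flat_algebraMap_iff.2 inferInstance
  refine ⟨Spec (CommRingCat.of B), f, hf, hs, fun V hV => ?_, fun x => ?_⟩
  · rcases (V : Set ↥(Spec (CommRingCat.of k))).eq_empty_or_nonempty with h0 | ⟨v, hv⟩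
    · exact ⟨⊥, isCompact_empty, by simp [h0]⟩
    · refine ⟨⊤, CompactSpace.isCompact_univ, Set.eq_of_subset_of_subset (fun y _ => ?_) (fun y _ => ?_)⟩
      · rw [show y = v from Subsingleton.elim (α := PrimeSpectrum k) _ _]
        exact hv
      · obtain ⟨x, rfl⟩ := f.surjective y
        exact ⟨x, trivial, rfl⟩
  · refine ⟨⊤, trivial, M, inferInstance, hM, MultBridge.split_comp e' (⊤ : (Spec (CommRingCat.of B)).Opens).ι ?_⟩
    rfl

/-- Affine line. -/
abbrev A1 (k : Type u) [Field k] : Over (Spec (CommRingCat.of k)) := W k (Polynomial k)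

theorem primitive_eq_zero_of_ext (H' H Hq : Over (Spec (CommRingCat.of k))) [GrpObj H'] [GrpObj H] [GrpObj Hq]
    [LocallyOfFiniteType H.hom] [LocallyOfFiniteType Hq.hom]
    (m : H' ⟶ H) [IsMonHom m] (p : H ⟶ Hq) [IsMonHom p] [Flat p.left] [Surjective p.left]
    (hp : AlgGrp.IsKernel m p) (h2 : SGA3x.IsMultTypeFT Hq) {A A' : Type u} [CommRing A] [HopfAlgebra k A]
    [CommRing A'] [HopfAlgebra k A'] (eA : specGrp k A ≅ Grp.mk H) (eA' : specGrp k A' ≅ Grp.mk H') (π : A →ₐc[k] A')
    (hπ : eA'.hom.hom.hom ≫ m = wmap (π : A →ₐ[k] A') ≫ eA.hom.hom.hom) (x : A)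
    (hx : Coalgebra.comul (R := k) x = x ⊗ₜ[k] (1 : A) + (1 : A) ⊗ₜ[k] x) (hπx : π x = 0) : x = 0 := by
  have hpc : IsCov p := isCov_of_field p
  haveI : IsAffineHom Hq.hom := FixedSmooth.isAffineHom_of_isMultTypeLoc (by
    obtain ⟨S', f, a, b, c, d⟩ := h2
    exact ⟨S', f, a, b, c, fun s => by obtain ⟨U, hU, M, i, -, e⟩ := d s; exact ⟨U, hU, M, i, e⟩⟩)
  obtain ⟨C, _, _, ⟨eC⟩⟩ := MultBridge.exists_hopf k Hq
  let FF := hopfSpec.fullyFaithful (R := CommRingCat.of k)
  let fψ : (hopfSpec (CommRingCat.of k)).obj (Opposite.op (CommHopfAlgCat.of k A)) ⟶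
      (hopfSpec (CommRingCat.of k)).obj (Opposite.op (CommHopfAlgCat.of k C)) :=
    eA.hom ≫ Grp.homMk (A := Grp.mk H) (B := Grp.mk Hq) p ≫ eC.inv
  obtain ⟨ψ₀, hψ₀⟩ : ∃ z, (hopfSpec (CommRingCat.of k)).map z = fψ := ⟨FF.preimage fψ, FF.map_preimage _⟩
  let ψ : C →ₐc[k] A := ψ₀.unop.hom
  let a : W k A ⟶ H := eA.hom.hom.hom
  let c : W k C ⟶ Hq := eC.hom.hom.hom
  let a' : W k A' ⟶ H' := eA'.hom.hom.hom
  haveI : IsMonHom a := eA.hom.hom.isMonHom_hom
  haveI : IsIso a := ((Grp.forget _).mapIso eA).isIso_hom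
  haveI : IsIso c := ((Grp.forget _).mapIso eC).isIso_hom
  haveI : IsIso a' := ((Grp.forget _).mapIso eA').isIso_hom
  have hψ : a ≫ p = wmap (ψ : C →ₐ[k] A) ≫ c := by
    have h := congrArg (fun f => f.hom.hom) (congrArg (· ≫ eC.hom) hψ₀)
    simp only [fψ, Category.assoc, Iso.inv_hom_id, Category.comp_id] at h
    exact h.symm
  have hψinj : Function.Injective ψ := by
    haveI : Flat (wmap (ψ : C →ₐ[k] A)).left := by
      have h := congrArg Over.Hom.left hψ
      rw [Over.comp_left, Over.comp_left] at h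
      haveI : IsIso a.left := ((Over.forget _).mapIso (asIso a)).isIso_hom
      haveI : IsIso c.left := ((Over.forget _).mapIso (asIso c)).isIso_hom
      rw [← MorphismProperty.cancel_right_of_respectsIso @Flat _ c.left, ← h]
      infer_instance
    haveI : Surjective (wmap (ψ : C →ₐ[k] A)).left := by
      have h := congrArg Over.Hom.left hψ
      rw [Over.comp_left, Over.comp_left] at h
      haveI : IsIso a.left := ((Over.forget _).mapIso (asIso a)).isIso_hom
      haveI : IsIso c.left := ((Over.forget _).mapIso (asIso c)).isIso_hom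
      rw [← MorphismProperty.cancel_right_of_respectsIso @Surjective _ c.left, ← h]
      infer_instance
    have hf : (ψ : C →ₐ[k] A).toRingHom.Flat := by
      have h : Flat (Spec.map (CommRingCat.ofHom (ψ : C →ₐ[k] A).toRingHom)) :=
        inferInstanceAs (Flat (wmap (ψ : C →ₐ[k] A)).left)
      rw [HasRingHomProperty.Spec_iff (P := @Flat)] at h
      exact h
    have hs : Function.Surjective (PrimeSpectrum.comap (ψ : C →ₐ[k] A).toRingHom) :=
      (wmap (ψ : C →ₐ[k] A)).left.surjective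
    exact ((RingHom.FaithfullyFlat.iff_flat_and_comap_surjective).2 ⟨hf, hs⟩).injective
  have hC := isMultTypeConst_of_FT h2 eC
  let F : 𝟙_ (Over (Spec (CommRingCat.of k))) ⊗ H ⟶ A1 k :=
    snd _ H ≫ inv a ≫ wmap (Polynomial.aeval (R := k) x)
  have hF : ∀ (T : Over (Spec (CommRingCat.of k))) (g : T ⟶ 𝟙_ _) (h h' : T ⟶ H), h ≫ p = h' ≫ p →
      lift g h ≫ F = lift g h' ≫ F := fun T g h h' e => by
    simp only [F, lift_snd_assoc]
    refine FixedSmooth.hom_ext_affine _ _ fun B q w => ?_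
    obtain ⟨φ, rfl⟩ := Spec.map_surjective q
    letI : Algebra k B := φ.hom.toAlgebra
    let h₁ : W k B ⟶ H := w ≫ h
    let h₂ : W k B ⟶ H := w ≫ h'
    obtain ⟨z, hz⟩ : ∃ z : W k B ⟶ H', z ≫ m = h₁⁻¹ * h₂ :=
      ⟨hp.lift (h₁⁻¹ * h₂) (toUnit _) (by
        rw [MonObj.mul_comp, GrpObj.inv_comp, show h₁ ≫ p = h₂ ≫ p from by simp only [h₁, h₂, Category.assoc, e],
          inv_mul_cancel]
        rfl), hp.lift_fst _ _ _⟩
    obtain ⟨α, hα⟩ := exists_wmap (h₁ ≫ inv a)
    obtain ⟨β, hβ⟩ := exists_wmap (h₂ ≫ inv a)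
    obtain ⟨ζ, hζ⟩ := exists_wmap (z ≫ inv a')
    haveI : IsMonHom (inv a) := inferInstanceAs (IsMonHom (asIso a).inv)
    have key : toConv β = toConv α * toConv (ζ.comp (π : A →ₐ[k] A')) := by
      apply (Spec.mapMulEquiv (R := k) (S := A) (T := B)).injective
      rw [map_mul, mapMulEquiv_apply, mapMulEquiv_apply, mapMulEquiv_apply, ← wmap_comp, hβ, hα, hζ]
      have h3 : (z ≫ inv a') ≫ wmap (π : A →ₐ[k] A') = (h₁⁻¹ * h₂) ≫ inv a := by
        rw [← hz, ← cancel_mono a]
        simp only [Category.assoc, IsIso.inv_hom_id, Category.comp_id]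
        rw [← hπ, IsIso.inv_hom_id_assoc]
      rw [h3]
      refine (congrArg (· ≫ inv a) (show h₂ = h₁ * (h₁⁻¹ * h₂) by group)).trans ?_
      exact MonObj.mul_comp _ _ _
    have hval : β x = α x := by
      have h4 := congrArg (fun f => f.ofConv x) key
      simp only [AlgHom.convMul_apply, hx, map_add] at h4
      rw [show (β x : B) = (toConv β).ofConv x from rfl, h4]
      simp [hπx]
    show h₁ ≫ inv a ≫ wmap (Polynomial.aeval (R := k) x) = h₂ ≫ inv a ≫ wmap (Polynomial.aeval (R := k) x)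
    rw [← Category.assoc, ← Category.assoc, ← hα, ← hβ, wmap_comp, wmap_comp]
    congr 1
    refine Polynomial.algHom_ext ?_
    simp [hval]
  obtain ⟨d, hd⟩ := exists_factor hpc F hF
  obtain ⟨χ, hχ⟩ := exists_wmap (c ≫ lift (toUnit Hq) (𝟙 Hq) ≫ d)
  have hcx : ψ (χ Polynomial.X) = x := by
    have h5 : wmap (ψ : C →ₐ[k] A) ≫ wmap χ = wmap (Polynomial.aeval (R := k) x) := by
      rw [hχ, ← Category.assoc, ← hψ]
      have h6 := hd (W k A) (toUnit _) a
      simp only [F, lift_snd_assoc, IsIso.hom_inv_id_assoc] at h6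
      rw [← h6, ← Category.assoc, comp_lift, Category.comp_id, toUnit_unique ((a ≫ p) ≫ toUnit Hq) (toUnit _)]
    rw [wmap_comp] at h5
    exact (congr($(wmap_injective h5) Polynomial.X)).trans (Polynomial.aeval_X x)
  have hprimc : Coalgebra.comul (R := k) (χ Polynomial.X) =
      χ Polynomial.X ⊗ₜ[k] (1 : C) + (1 : C) ⊗ₜ[k] χ Polynomial.X := by
    have hinj : Function.Injective (TensorProduct.map (ψ : C →ₐ[k] A).toLinearMap (ψ : C →ₐ[k] A).toLinearMap) :=
      TensorProduct.map_injective_of_flat_flat _ _ hψinj hψinj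
    apply hinj
    rw [map_add, TensorProduct.map_tmul, TensorProduct.map_tmul]
    refine (CoalgHomClass.map_comp_comul_apply ψ _).trans ?_
    show Coalgebra.comul (ψ (χ Polynomial.X)) =
      ψ (χ Polynomial.X) ⊗ₜ[k] ψ 1 + ψ 1 ⊗ₜ[k] ψ (χ Polynomial.X)
    rw [hcx, map_one]
    exact hx
  rw [← hcx, CommUnip.primitive_eq_zero_of_multType hC _ hprimc, map_zero]

theorem isMultTypeFT_of_ext (H' H Hq : Over (Spec (CommRingCat.of k))) [GrpObj H'] [GrpObj H] [GrpObj Hq]
    [IsAffine H.left] [LocallyOfFiniteType H.hom] [LocallyOfFiniteType Hq.hom]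
    (hcomm : ∀ (T : Over (Spec (CommRingCat.of k))) (a b : T ⟶ H), a * b = b * a)
    (m : H' ⟶ H) [IsMonHom m] (p : H ⟶ Hq) [IsMonHom p] [Flat p.left] [Surjective p.left]
    (hp : AlgGrp.IsKernel m p) (h1 : SGA3x.IsMultTypeFT H') (h2 : SGA3x.IsMultTypeFT Hq) : SGA3x.IsMultTypeFT H := by
  have hpc : IsCov p := isCov_of_field p
  haveI : IsAffineHom Hq.hom := FixedSmooth.isAffineHom_of_isMultTypeLoc (by
    obtain ⟨S', f, a, b, c, d⟩ := h2
    exact ⟨S', f, a, b, c, fun s => by obtain ⟨U, hU, M, i, -, e⟩ := d s; exact ⟨U, hU, M, i, e⟩⟩)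
  haveI : IsAffineHom H'.hom := FixedSmooth.isAffineHom_of_isMultTypeLoc (by
    obtain ⟨S', f, a, b, c, d⟩ := h1
    exact ⟨S', f, a, b, c, fun s => by obtain ⟨U, hU, M, i, -, e⟩ := d s; exact ⟨U, hU, M, i, e⟩⟩)
  haveI : IsAffineHom H.hom := inferInstance
  obtain ⟨A, _, _, ⟨eA⟩⟩ := MultBridge.exists_hopf k H
  obtain ⟨A', _, _, ⟨eA'⟩⟩ := MultBridge.exists_hopf k H'
  haveI : Algebra.FiniteType k A := by
    have h := MultBridge.prop_algebraMap eA @LocallyOfFiniteType inferInstance
    rw [HasRingHomProperty.Spec_iff (P := @LocallyOfFiniteType)] at h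
    exact RingHom.finiteType_algebraMap.1 h
  let FF := hopfSpec.fullyFaithful (R := CommRingCat.of k)
  let fπ : (hopfSpec (CommRingCat.of k)).obj (Opposite.op (CommHopfAlgCat.of k A')) ⟶
      (hopfSpec (CommRingCat.of k)).obj (Opposite.op (CommHopfAlgCat.of k A)) :=
    eA'.hom ≫ Grp.homMk (A := Grp.mk H') (B := Grp.mk H) m ≫ eA.inv
  obtain ⟨π₀, hπ₀⟩ : ∃ z, (hopfSpec (CommRingCat.of k)).map z = fπ := ⟨FF.preimage fπ, FF.map_preimage _⟩
  let π : A →ₐc[k] A' := π₀.unop.hom
  let a : W k A ⟶ H := eA.hom.hom.hom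
  let a' : W k A' ⟶ H' := eA'.hom.hom.hom
  haveI : IsMonHom a := eA.hom.hom.isMonHom_hom
  haveI : IsIso a := ((Grp.forget _).mapIso eA).isIso_hom
  haveI : IsIso a' := ((Grp.forget _).mapIso eA').isIso_hom
  have hπ : a' ≫ m = wmap (π : A →ₐ[k] A') ≫ a := by
    have h := congrArg (fun f => f.hom.hom) (congrArg (· ≫ eA.hom) hπ₀)
    simp only [fπ, Category.assoc, Iso.inv_hom_id, Category.comp_id] at h
    exact h.symm
  haveI : Coalgebra.IsCocomm k A := isCocomm_of_points fun T x y => by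
    apply (cancel_mono a).1
    rw [MonObj.mul_comp, MonObj.mul_comp]
    exact hcomm _ _ _
  have hA' := isMultTypeConst_of_FT h1 eA'
  -- primitives vanish
  have hprim : ∀ x : A, Coalgebra.comul (R := k) x = x ⊗ₜ[k] (1 : A) + (1 : A) ⊗ₜ[k] x → x = 0 := fun x hx =>
    primitive_eq_zero_of_ext H' H Hq m p hp h2 eA eA' π hπ x hx (CommUnip.primitive_eq_zero_of_multType hA' (π x) (by
      rw [← CoalgHomClass.map_comp_comul_apply π x, hx, map_add, TensorProduct.map_tmul, TensorProduct.map_tmul]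
      simp))
  have hmi : CommUnip.multIdeal k A = ⊥ := by
    letI := HopfPts.subHopfAlgebra (CommUnip.isHopfSub_unitComp (k := k) (A := A))
    refine le_bot_iff.1 (Ideal.map_le_iff_le_comap.2 fun b hb => ?_)
    obtain ⟨n, hn⟩ := b.2
    obtain ⟨r, hr⟩ := CommUnip.exists_const_of_mem_fil_one (CommUnip.fil_eq_one_of_no_primitive hprim hn)
    have hε : Coalgebra.counit (R := k) (b : A) = 0 := hb
    have h3 := congrArg (Coalgebra.counit (R := k)) hr
    rw [hε, map_smul, Bialgebra.counit_one, smul_eq_mul, _root_.mul_one] at h3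
    rw [← h3, zero_smul] at hr
    exact Ideal.mem_comap.2 ((Ideal.mem_bot).2 hr)
  haveI := CommUnip.isHopfIdeal_multIdeal (k := k) (A := A)
  obtain ⟨B, _, _, hff, hD⟩ := CommUnip.isMultType_quot (k := k) (A := A)
  refine isMultTypeFT_of_const eA ⟨B, inferInstance, inferInstance, hff, ?_⟩
  let q : A →ₐc[k] A ⧸ CommUnip.multIdeal k A := Bialgebra.Quotient.mkBialgHom (R := k) _
  have hq : Function.Bijective q := ⟨fun x y h => sub_eq_zero.1 (by
    have h' := Ideal.Quotient.eq.1 h
    have := hmi.le h'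
    exact (Ideal.mem_bot).1 this), Ideal.Quotient.mk_surjective⟩
  obtain ⟨M, _, ⟨ε⟩⟩ := hD
  have hb : Function.Bijective (Bialgebra.TensorProduct.map (BialgHom.id B B) q) := by
    have : ⇑(Bialgebra.TensorProduct.map (BialgHom.id B B) q) =
        ⇑(TensorProduct.AlgebraTensorModule.congr (LinearEquiv.refl B B)
          (LinearEquiv.ofBijective (q : A →ₗ[k] A ⧸ CommUnip.multIdeal k A) hq)) := rfl
    rw [this]
    exact LinearEquiv.bijective _
  exact ⟨M, inferInstance, ⟨(BialgEquiv.ofBijective _ hb).trans ε⟩⟩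

end Groth.Agent.MultExtCentral
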