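import Groth.Agent.GrpQuotLib.Kernel
import Groth.Agent.GrpSchLib.Component
import Groth.Agent.MonoFibre.MultType

/-!
Descending maps along coverings of group schemes.
-/

set_option autoImplicit false
set_option backward.isDefEq.respectTransparency false
set_option backward.isDefEq.respectTransparency.types false
set_option linter.unusedSectionVars false
set_option linter.style.haveILetI false

universe u

open CategoryTheory CategoryTheory.Limits MonoidalCategory CartesianMonoidalCategory MonObj GrpObj AlgebraicGeometry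

noncomputable section

namespace Groth.Agent.MultExtCentral

variable {S : Scheme.{u}}

/-- Covering morphisms. -/
structure IsCov {E Q : Over S} (p : E ⟶ Q) : Prop where
  flat : Flat p.left
  surj : Surjective p.left
  lfp : LocallyOfFinitePresentation p.left

theorem cancel {T T' Y : Over S} (d : T' ⟶ T) [Surjective d.left] [Flat d.left]
    [LocallyOfFinitePresentation d.left] {a b : T ⟶ Y} (h : d ≫ a = d ≫ b) : a = b := by
  haveI := Groth.Agent.SchDesc.IsFpqc.of_locallyOfFinitePresentation d.left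
  haveI : Epi d.left := inferInstance
  exact Over.OverMorphism.ext ((cancel_epi d.left).1 (congrArg CommaMorphism.left h))

/-- Equality may be checked after lifting a point along a covering. -/
theorem eq_of_lifts {E Q T Y : Over S} {p : E ⟶ Q} (hp : IsCov p) (x : T ⟶ Q) {a b : T ⟶ Y}
    (h : ∀ (T' : Over S) (d : T' ⟶ T) (e : T' ⟶ E), e ≫ p = d ≫ x → d ≫ a = d ≫ b) : a = b := by
  haveI := hp.flat; haveI := hp.surj; haveI := hp.lfp
  obtain ⟨T', d, e, hs, hf, hl, he⟩ := GrpQuotLib.exists_lift_cover p x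
  haveI := hs; haveI := hf; haveI := hl
  exact cancel d (h T' d e he.symm)

/-- A map invariant along a covering in the second variable descends. -/
theorem exists_factor {E Q K Y : Over S} {p : E ⟶ Q} (hp : IsCov p) (f : K ⊗ E ⟶ Y)
    (hf : ∀ (T : Over S) (g : T ⟶ K) (h h' : T ⟶ E), h ≫ p = h' ≫ p → lift g h ≫ f = lift g h' ≫ f) :
    ∃ d : K ⊗ Q ⟶ Y, ∀ (T : Over S) (g : T ⟶ K) (h : T ⟶ E), lift g (h ≫ p) ≫ d = lift g h ≫ f := by
  haveI := hp.flat; haveI := hp.surj; haveI := hp.lfp
  obtain ⟨T₀, c₀, e₀, hs, hfl, hl, he₀⟩ := GrpQuotLib.exists_lift_cover p (snd K Q)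
  haveI := hs; haveI := hfl; haveI := hl
  haveI := Groth.Agent.SchDesc.IsFpqc.of_locallyOfFinitePresentation c₀.left
  let f₀ : T₀ ⟶ Y := lift (c₀ ≫ fst K Q) e₀ ≫ f
  let z : (K ⊗ Q).left ⟶ Y.left := EffectiveEpi.desc c₀.left f₀.left fun {Z} a b e => by
    let Z' : Over S := Over.mk (a ≫ T₀.hom)
    let a' : Z' ⟶ T₀ := Over.homMk a rfl
    let b' : Z' ⟶ T₀ := Over.homMk b (by
      show b ≫ T₀.hom = a ≫ T₀.hom
      rw [← Over.w c₀, ← Category.assoc, ← e, Category.assoc])
    have hab : a' ≫ c₀ = b' ≫ c₀ := Over.OverMorphism.ext e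
    have h1 : a' ≫ f₀ = b' ≫ f₀ := by
      simp only [f₀, ← Category.assoc, comp_lift]
      rw [hab]
      refine hf _ _ _ _ ?_
      rw [Category.assoc, Category.assoc, ← he₀, ← Category.assoc, ← Category.assoc, hab]
    exact congrArg CommaMorphism.left h1
  have hz : c₀.left ≫ z = f₀.left := EffectiveEpi.fac _ _ _
  let d : K ⊗ Q ⟶ Y := Over.homMk z ((cancel_epi c₀.left).1 (by rw [reassoc_of% hz, Over.w f₀, Over.w c₀]))
  have hd : c₀ ≫ d = f₀ := Over.OverMorphism.ext hz
  refine ⟨d, fun T g h => ?_⟩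
  obtain ⟨T', u, v, hs', hf', hl', huv⟩ := GrpQuotLib.exists_lift_cover c₀ (lift g (h ≫ p))
  haveI := hs'; haveI := hf'; haveI := hl'
  apply cancel u
  rw [← Category.assoc, huv, Category.assoc, hd]
  simp only [f₀, ← Category.assoc, comp_lift]
  rw [← huv, Category.assoc u, lift_fst]
  refine hf _ _ _ _ ?_
  rw [Category.assoc, ← he₀, ← Category.assoc, ← huv, Category.assoc, lift_snd, Category.assoc]

theorem isCov_of_field {k : Type u} [Field k] {E Q : Over (Spec (CommRingCat.of k))} (p : E ⟶ Q) [Flat p.left]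
    [Surjective p.left] [LocallyOfFiniteType E.hom] [LocallyOfFiniteType Q.hom] : IsCov p := by
  haveI : IsLocallyNoetherian Q.left := LocallyOfFiniteType.isLocallyNoetherian Q.hom
  haveI : LocallyOfFiniteType (p.left ≫ Q.hom) := by rw [Over.w p]; infer_instance
  haveI : LocallyOfFiniteType p.left := locallyOfFiniteType_of_comp p.left Q.hom
  exact ⟨inferInstance, inferInstance, LocallyOfFinitePresentation.iff_locallyOfFiniteType.2 inferInstance⟩

/-- The commutator of points. -/
def com {E T : Over S} [GrpObj E] (g h : T ⟶ E) : T ⟶ E := g * h * g⁻¹ * h⁻¹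

variable {E : Over S} [GrpObj E] {T T' : Over S}

theorem comp_com (c : T' ⟶ T) (g h : T ⟶ E) : c ≫ com g h = com (c ≫ g) (c ≫ h) := by
  simp only [com, MonObj.comp_mul, GrpObj.comp_inv]

theorem com_eq_one_iff (g h : T ⟶ E) : com g h = 1 ↔ g * h = h * g := by
  rw [com, mul_inv_eq_one, mul_inv_eq_iff_eq_mul]

theorem com_comp {F : Over S} [GrpObj F] (f : E ⟶ F) [IsMonHom f] (g h : T ⟶ E) :
    com g h ≫ f = com (g ≫ f) (h ≫ f) := by
  simp only [com, MonObj.mul_comp, GrpObj.inv_comp]

theorem com_mul_right {g h h' : T ⟶ E} : com g (h * h') = com g h * (h * com g h' * h⁻¹) := by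
  simp only [com]; group

theorem com_mul_left {g g' h : T ⟶ E} : com (g * g') h = g * com g' h * g⁻¹ * com g h := by
  simp only [com]; group

theorem com_congr_right {g h h' : T ⟶ E} (z : T ⟶ E) (hz : h' = h * z) (hg : g * z = z * g) :
    com g h' = com g h := by
  have h1 : com g z = 1 := (com_eq_one_iff _ _).2 hg
  rw [hz, com_mul_right, h1]; group

theorem com_congr_left {g g' h : T ⟶ E} (z : T ⟶ E) (hz : g' = g * z) (hh : z * h = h * z) :
    com g' h = com g h := by
  have h1 : com z h = 1 := (com_eq_one_iff _ _).2 hh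
  rw [hz, com_mul_left, h1]; group

end Groth.Agent.MultExtCentral
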