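import Groth.Agent.MultExtCentralLib.Desc
import Groth.Agent.MultRigidLib.Family
import Groth.Agent.EtNormalTorusLib.Conn
import Groth.Agent.SplitHom.SameRank
import Groth.Agent.ConnConj.Main

/-!
Central extensions of tori; subgroups of multiplicative type in connected groups.
-/

set_option autoImplicit false
set_option backward.isDefEq.respectTransparency false
set_option backward.isDefEq.respectTransparency.types false
set_option linter.unusedSectionVars false
set_option linter.style.haveILetI false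
set_option maxHeartbeats 1000000
set_option synthInstance.maxHeartbeats 400000

universe u

open CategoryTheory CategoryTheory.Limits MonoidalCategory CartesianMonoidalCategory MonObj GrpObj AlgebraicGeometry

noncomputable section

namespace Groth.Agent.MultExtCentral

variable {k : Type u} [Field k]

/-- A group over a field which is connected has connected fibres. -/
theorem connected_fibre (G : Over (Spec (CommRingCat.of k))) [ConnectedSpace ↥G.left]
    (s : ↥(Spec (CommRingCat.of k))) :
    ConnectedSpace ↥(Limits.pullback G.hom ((Spec (CommRingCat.of k)).fromSpecResidueField s)) := by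
  haveI : IsIso ((Spec (CommRingCat.of k)).fromSpecResidueField s) := by
    haveI : IsPreimmersion ((Spec (CommRingCat.of k)).fromSpecResidueField s) := inferInstance
    have hr : Set.range ((Spec (CommRingCat.of k)).fromSpecResidueField s) = Set.univ := by
      rw [Scheme.range_fromSpecResidueField]
      exact Set.eq_univ_of_forall fun x => @Subsingleton.elim _ (inferInstanceAs (Subsingleton (PrimeSpectrum k))) x s
    haveI : Surjective ((Spec (CommRingCat.of k)).fromSpecResidueField s) := ⟨Set.range_eq_univ.1 hr⟩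
    haveI : IsClosedImmersion ((Spec (CommRingCat.of k)).fromSpecResidueField s) :=
      IsClosedImmersion.of_isPreimmersion _ (by rw [hr]; exact isClosed_univ)
    exact isIso_of_isClosedImmersion_of_surjective _
  exact (inv (pullback.fst G.hom ((Spec (CommRingCat.of k)).fromSpecResidueField s))).homeomorph.surjective.connectedSpace
    (inv (pullback.fst G.hom ((Spec (CommRingCat.of k)).fromSpecResidueField s))).homeomorph.continuous

/-- A central extension of a torus by an affine group is commutative. -/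
theorem comm_of_torus (S E : Over (Spec (CommRingCat.of k))) [GrpObj S] [GrpObj E] (hS : Red.IsTorus S)
    [LocallyOfFiniteType E.hom]
    (q : E ⟶ S) [IsMonHom q] [Flat q.left] [Surjective q.left]
    (hcentral : ∀ (X : Over (Spec (CommRingCat.of k))) (z : X ⟶ E), z ≫ q = 1 →
      ∀ (X' : Over (Spec (CommRingCat.of k))) (x : X' ⟶ X) (g : X' ⟶ E), (x ≫ z) * g = g * (x ≫ z))
    (X : Over (Spec (CommRingCat.of k))) (g h : X ⟶ E) : g * h = h * g := by
  have hM := SplitHom.isMultTypeFT_of_isTorus hS
  haveI := MonoFibre.locallyOfFiniteType_of_isMultTypeFT S hM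
  haveI : ConnectedSpace ↥S.left := EtNormalTorusLib.connectedSpace_torus S hS
  haveI : IsSeparated S.hom := GrpSchLib.isSeparated_hom
  haveI : IsSeparated E.hom := GrpSchLib.isSeparated_hom
  have hp : IsCov q := isCov_of_field q
  have hcz : ∀ {T : Over (Spec (CommRingCat.of k))} (z g : T ⟶ E), z ≫ q = 1 → z * g = g * z := fun {T} z g hz => by
    have := hcentral T z hz T (𝟙 T) g
    rwa [Category.id_comp] at this
  have hcomq : ∀ {T : Over (Spec (CommRingCat.of k))} (g h : T ⟶ E), com g h ≫ q = 1 := fun g h => by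
    rw [com_comp, com_eq_one_iff, MultRigid.comm_multType hM]
  have hright : ∀ (T : Over (Spec (CommRingCat.of k))) (g h h' : T ⟶ E), h ≫ q = h' ≫ q →
      lift g h ≫ com (fst E E) (snd E E) = lift g h' ≫ com (fst E E) (snd E E) := fun T g h h' e => by
    simp only [comp_com, lift_fst, lift_snd]
    refine com_congr_right (h'⁻¹ * h) (by group) (hcz _ _ ?_).symm
    rw [MonObj.mul_comp, GrpObj.inv_comp, e, inv_mul_cancel]
  obtain ⟨f₁, hf₁⟩ := exists_factor hp (com (fst E E) (snd E E)) hright
  simp only [comp_com, lift_fst, lift_snd] at hf₁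
  have hleft : ∀ (T : Over (Spec (CommRingCat.of k))) (y : T ⟶ S) (g g' : T ⟶ E), g ≫ q = g' ≫ q →
      lift y g ≫ lift (snd S E) (fst S E) ≫ f₁ = lift y g' ≫ lift (snd S E) (fst S E) ≫ f₁ := fun T y g g' e => by
    simp only [← Category.assoc, comp_lift, lift_fst, lift_snd]
    refine eq_of_lifts hp y fun T' d h he => ?_
    simp only [← Category.assoc, comp_lift]
    rw [← he, hf₁, hf₁]
    refine com_congr_left ((d ≫ g')⁻¹ * (d ≫ g)) (by group) (hcz _ _ ?_)
    rw [MonObj.mul_comp, GrpObj.inv_comp, Category.assoc, Category.assoc, e, inv_mul_cancel]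
  obtain ⟨d, hd⟩ := exists_factor hp _ hleft
  simp only [← Category.assoc, comp_lift, lift_fst, lift_snd] at hd
  have hd1 : d = 1 := by
    refine MultRigid.triv_of_family hM d (fun T y x x' => ?_) (fun T x => ?_)
    · refine eq_of_lifts hp y fun T₁ u h hh => ?_
      refine eq_of_lifts hp (u ≫ x) fun T₂ v a ha => ?_
      refine eq_of_lifts hp (v ≫ u ≫ x') fun T₃ w a' ha' => ?_
      simp only [MonObj.comp_mul, ← Category.assoc, comp_lift]
      simp only [Category.assoc]
      rw [← ha', show w ≫ v ≫ u ≫ x = (w ≫ a) ≫ q by rw [Category.assoc, ha],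
        show w ≫ v ≫ u ≫ y = (w ≫ v ≫ h) ≫ q by rw [Category.assoc, Category.assoc, hh],
        ← MonObj.mul_comp, hd, hd, hd, hf₁, hf₁, hf₁, com_mul_left, ← hcz _ (w ≫ a) (hcomq a' _),
        mul_inv_cancel_right]
      have h2 := hcz _ (com (w ≫ a) (w ≫ v ≫ h)) (hcomq a' (w ≫ v ≫ h))
      exact h2
    · refine eq_of_lifts hp x fun T₁ u a ha => ?_
      rw [MonObj.comp_one, ← Category.assoc, comp_lift, ← ha, MonObj.comp_one,
        show (1 : T₁ ⟶ S) = (1 : T₁ ⟶ E) ≫ q from (MonObj.one_comp q).symm, hd, hf₁, com_eq_one_iff,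
        _root_.mul_one, _root_.one_mul]
  rw [← com_eq_one_iff]
  have h1 := hd X (h ≫ q) g
  rw [hd1, MonObj.comp_one, hf₁] at h1
  exact h1.symm

/-- Commutators with a subgroup killed by a homomorphism to a multiplicative group. -/
theorem central_of_extension (G H H' Hq : Over (Spec (CommRingCat.of k))) [GrpObj G] [GrpObj H] [GrpObj H'] [GrpObj Hq]
    [LocallyOfFiniteType G.hom] [ConnectedSpace ↥G.left] [LocallyOfFiniteType H.hom] [LocallyOfFiniteType Hq.hom]
    (iH : H ⟶ G) [IsMonHom iH] [Mono iH] (hH : AlgGrp.IsNormalHom iH) (iH' : H' ⟶ G) [IsMonHom iH'] [Mono iH']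
    (hH' : AlgGrp.IsNormalHom iH') (m : H' ⟶ H) [IsMonHom m] (hm : m ≫ iH = iH')
    (p : H ⟶ Hq) [IsMonHom p] [Flat p.left] [Surjective p.left] (hp : AlgGrp.IsKernel m p)
    (h1 : SGA3x.IsMultTypeFT H') (h2 : SGA3x.IsMultTypeFT Hq)
    (T : Over (Spec (CommRingCat.of k))) (g : T ⟶ G) (h : T ⟶ H) : g * (h ≫ iH) = (h ≫ iH) * g := by
  haveI : IsSeparated G.hom := GrpSchLib.isSeparated_hom
  haveI : IsSeparated Hq.hom := GrpSchLib.isSeparated_hom
  have hpc : IsCov p := isCov_of_field p
  have hcen' : ∀ (T : Over (Spec (CommRingCat.of k))) (g : T ⟶ G) (z : T ⟶ H'), g * (z ≫ iH') = (z ≫ iH') * g :=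
    ConnConj.central_of_normal (connected_fibre G) iH' h1 hH'
  have hker : ∀ {T : Over (Spec (CommRingCat.of k))} {z : T ⟶ H}, z ≫ p = 1 → ∃ z' : T ⟶ H', z' ≫ iH' = z ≫ iH :=
    fun {T z} hz => ⟨hp.lift z (toUnit T) hz, by rw [← hm, ← Category.assoc, hp.lift_fst]⟩
  obtain ⟨c₀, hc₀⟩ := hH (G ⊗ H) (fst G H) (snd G H)
  let c : G ⊗ H ⟶ H := c₀ * (snd G H)⁻¹
  have hc : ∀ {T : Over (Spec (CommRingCat.of k))} (g : T ⟶ G) (h : T ⟶ H), (lift g h ≫ c) ≫ iH = com g (h ≫ iH) := fun g h => by
    simp only [c, Category.assoc, MonObj.mul_comp, GrpObj.inv_comp, ← hc₀, MonObj.comp_mul, GrpObj.comp_inv,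
      lift_fst, lift_snd_assoc, com]
  have hinj : ∀ {T : Over (Spec (CommRingCat.of k))} {a b : T ⟶ H}, a ≫ iH = b ≫ iH → a = b := fun h => (cancel_mono iH).1 h
  have hright : ∀ (T : Over (Spec (CommRingCat.of k))) (g : T ⟶ G) (h h' : T ⟶ H), h ≫ p = h' ≫ p →
      lift g h ≫ c = lift g h' ≫ c := fun T g h h' e => by
    obtain ⟨z', hz'⟩ := hker (z := h'⁻¹ * h) (by rw [MonObj.mul_comp, GrpObj.inv_comp, e, inv_mul_cancel])
    apply hinj
    rw [hc, hc]
    refine com_congr_right ((h'⁻¹ * h) ≫ iH) (by rw [← MonObj.mul_comp, mul_inv_cancel_left]) ?_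
    rw [← hz']
    exact hcen' _ _ _
  obtain ⟨e, he⟩ := exists_factor hpc c hright
  have hcomm : ∀ {T : Over (Spec (CommRingCat.of k))} (a b : T ⟶ Hq), a * b = b * a := fun a b =>
    MultRigid.comm_multType h2 a b
  -- the commutator lands in the first group
  have he1 : e ≫ p = 1 := by
    refine MultRigid.triv_of_family h2 _ (fun T g x x' => ?_) (fun T x => ?_)
    · refine eq_of_lifts hpc x fun T₁ u a ha => ?_
      refine eq_of_lifts hpc (u ≫ x') fun T₂ v a' ha' => ?_
      simp only [MonObj.comp_mul, ← Category.assoc, comp_lift]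
      simp only [Category.assoc]
      rw [← ha', show v ≫ u ≫ x = (v ≫ a) ≫ p by rw [Category.assoc, ha], ← MonObj.mul_comp]
      simp only [← Category.assoc, he]
      rw [← MonObj.mul_comp]
      have h3 : lift ((v ≫ u) ≫ g) ((v ≫ a) * a') ≫ c =
          (lift ((v ≫ u) ≫ g) (v ≫ a) ≫ c) * ((v ≫ a) * (lift ((v ≫ u) ≫ g) a' ≫ c) * (v ≫ a)⁻¹) := by
        apply hinj
        simp only [MonObj.mul_comp, GrpObj.inv_comp, hc, com_mul_right]
      rw [h3]
      simp only [MonObj.mul_comp, GrpObj.inv_comp]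
      rw [hcomm ((v ≫ a) ≫ p), mul_inv_cancel_right]
    · refine eq_of_lifts hpc x fun T₁ u a ha => ?_
      rw [MonObj.comp_one, ← Category.assoc, comp_lift, ← ha, MonObj.comp_one, ← Category.assoc, he]
      refine Eq.trans (congrArg (· ≫ p) (hinj (b := 1) ?_)) (MonObj.one_comp p)
      rw [hc, MonObj.one_comp, com_eq_one_iff, _root_.one_mul, _root_.mul_one]
  have hcz : ∀ {T : Over (Spec (CommRingCat.of k))} (g x : T ⟶ G) (h : T ⟶ H), x * com g (h ≫ iH) = com g (h ≫ iH) * x :=
    fun {T} g x h => by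
    obtain ⟨z', hz'⟩ := hker (z := lift g h ≫ c) (by rw [← he, Category.assoc, he1, MonObj.comp_one])
    rw [← hc, ← hz']
    exact hcen' _ _ _
  have he2 : e ≫ iH = 1 := by
    refine MultRigid.triv_of_family h2 _ (fun T g x x' => ?_) (fun T x => ?_)
    · refine eq_of_lifts hpc x fun T₁ u a ha => ?_
      refine eq_of_lifts hpc (u ≫ x') fun T₂ v a' ha' => ?_
      simp only [MonObj.comp_mul, ← Category.assoc, comp_lift]
      simp only [Category.assoc]
      rw [← ha', show v ≫ u ≫ x = (v ≫ a) ≫ p by rw [Category.assoc, ha], ← MonObj.mul_comp]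
      simp only [← Category.assoc, he, hc]
      rw [MonObj.mul_comp, com_mul_right, hcz _ _ a', mul_inv_cancel_right]
    · refine eq_of_lifts hpc x fun T₁ u a ha => ?_
      rw [MonObj.comp_one, ← Category.assoc, comp_lift, ← ha, MonObj.comp_one, ← Category.assoc, he, hc,
        com_eq_one_iff, _root_.one_mul, _root_.mul_one]
  rw [← com_eq_one_iff, ← hc, ← he, Category.assoc, he2, MonObj.comp_one]

end Groth.Agent.MultExtCentral
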